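import Cfsg.Agent.Lib.Cert.He.T7.A

set_option autoImplicit false
set_option maxRecDepth 100000

namespace Cfsg.Agent.Ct.He.L7

open Cfsg.Agent.PC

theorem r24000 : Nat.beq (rng row (nat_lit 24000) (nat_lit 2000)) (nat_lit 0) = true := by decide +kernel
theorem r26000 : Nat.beq (rng row (nat_lit 26000) (nat_lit 2000)) (nat_lit 0) = true := by decide +kernel
theorem r28000 : Nat.beq (rng row (nat_lit 28000) (nat_lit 2000)) (nat_lit 0) = true := by decide +kernel
theorem r30000 : Nat.beq (rng row (nat_lit 30000) (nat_lit 2000)) (nat_lit 0) = true := by decide +kernel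
theorem r32000 : Nat.beq (rng row (nat_lit 32000) (nat_lit 2000)) (nat_lit 0) = true := by decide +kernel
theorem r34000 : Nat.beq (rng row (nat_lit 34000) (nat_lit 2000)) (nat_lit 0) = true := by decide +kernel

end Cfsg.Agent.Ct.He.L7
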