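import Cfsg.Agent.Lib.Cert.He.T7.A

set_option autoImplicit false
set_option maxRecDepth 100000

namespace Cfsg.Agent.Ct.He.L7

open Cfsg.Agent.PC

theorem r48000 : Nat.beq (rng row (nat_lit 48000) (nat_lit 1980)) (nat_lit 0) = true := by decide +kernel
theorem a0 : Nat.beq (rng aux (nat_lit 0) (nat_lit 1678)) (nat_lit 0) = true := by decide +kernel

end Cfsg.Agent.Ct.He.L7
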