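import Cfsg.Agent.Lib.Cert.He.T7.R0
import Cfsg.Agent.Lib.Cert.He.T7.R1
import Cfsg.Agent.Lib.Cert.He.T7.R2
import Cfsg.Agent.Lib.Cert.He.T7.R3
import Cfsg.Agent.Lib.Cert.He.T7.R4

set_option autoImplicit false
set_option maxRecDepth 100000

namespace Cfsg.Agent.Ct.He.L7

open Cfsg.Agent.PC

theorem rows : ∀ i < 49980, row i = 0 := by
  have h := zero_lt_zero row
  have h := zero_lt_add (a := (nat_lit 0)) (n := (nat_lit 2000)) (b := (nat_lit 2000)) h r0 rfl
  have h := zero_lt_add (a := (nat_lit 2000)) (n := (nat_lit 2000)) (b := (nat_lit 4000)) h r2000 rfl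
  have h := zero_lt_add (a := (nat_lit 4000)) (n := (nat_lit 2000)) (b := (nat_lit 6000)) h r4000 rfl
  have h := zero_lt_add (a := (nat_lit 6000)) (n := (nat_lit 2000)) (b := (nat_lit 8000)) h r6000 rfl
  have h := zero_lt_add (a := (nat_lit 8000)) (n := (nat_lit 2000)) (b := (nat_lit 10000)) h r8000 rfl
  have h := zero_lt_add (a := (nat_lit 10000)) (n := (nat_lit 2000)) (b := (nat_lit 12000)) h r10000 rfl
  have h := zero_lt_add (a := (nat_lit 12000)) (n := (nat_lit 2000)) (b := (nat_lit 14000)) h r12000 rfl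
  have h := zero_lt_add (a := (nat_lit 14000)) (n := (nat_lit 2000)) (b := (nat_lit 16000)) h r14000 rfl
  have h := zero_lt_add (a := (nat_lit 16000)) (n := (nat_lit 2000)) (b := (nat_lit 18000)) h r16000 rfl
  have h := zero_lt_add (a := (nat_lit 18000)) (n := (nat_lit 2000)) (b := (nat_lit 20000)) h r18000 rfl
  have h := zero_lt_add (a := (nat_lit 20000)) (n := (nat_lit 2000)) (b := (nat_lit 22000)) h r20000 rfl
  have h := zero_lt_add (a := (nat_lit 22000)) (n := (nat_lit 2000)) (b := (nat_lit 24000)) h r22000 rfl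
  have h := zero_lt_add (a := (nat_lit 24000)) (n := (nat_lit 2000)) (b := (nat_lit 26000)) h r24000 rfl
  have h := zero_lt_add (a := (nat_lit 26000)) (n := (nat_lit 2000)) (b := (nat_lit 28000)) h r26000 rfl
  have h := zero_lt_add (a := (nat_lit 28000)) (n := (nat_lit 2000)) (b := (nat_lit 30000)) h r28000 rfl
  have h := zero_lt_add (a := (nat_lit 30000)) (n := (nat_lit 2000)) (b := (nat_lit 32000)) h r30000 rfl
  have h := zero_lt_add (a := (nat_lit 32000)) (n := (nat_lit 2000)) (b := (nat_lit 34000)) h r32000 rfl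
  have h := zero_lt_add (a := (nat_lit 34000)) (n := (nat_lit 2000)) (b := (nat_lit 36000)) h r34000 rfl
  have h := zero_lt_add (a := (nat_lit 36000)) (n := (nat_lit 2000)) (b := (nat_lit 38000)) h r36000 rfl
  have h := zero_lt_add (a := (nat_lit 38000)) (n := (nat_lit 2000)) (b := (nat_lit 40000)) h r38000 rfl
  have h := zero_lt_add (a := (nat_lit 40000)) (n := (nat_lit 2000)) (b := (nat_lit 42000)) h r40000 rfl
  have h := zero_lt_add (a := (nat_lit 42000)) (n := (nat_lit 2000)) (b := (nat_lit 44000)) h r42000 rfl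
  have h := zero_lt_add (a := (nat_lit 44000)) (n := (nat_lit 2000)) (b := (nat_lit 46000)) h r44000 rfl
  have h := zero_lt_add (a := (nat_lit 46000)) (n := (nat_lit 2000)) (b := (nat_lit 48000)) h r46000 rfl
  have h := zero_lt_add (a := (nat_lit 48000)) (n := (nat_lit 1980)) (b := (nat_lit 49980)) h r48000 rfl
  exact h
theorem auxs : ∀ i < 1678, aux i = 0 := by
  have h := zero_lt_zero aux
  have h := zero_lt_add (a := (nat_lit 0)) (n := (nat_lit 1678)) (b := (nat_lit 1678)) h a0 rfl
  exact h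
theorem closes.{u} : ClosesT.{u} (fun j => j) rels 7 6 49980 T :=
  hc_closes (N1 := (nat_lit 49979)) rfl T_eq (by decide +kernel) rows auxs
theorem T_inv : ∀ c < 49980, ∀ j < 7, T j c < 49980 ∧ T j (T j c) = c := 
  hc_inv (inv := (fun j => j)) (N1 := (nat_lit 49979)) rfl T_eq rows

end Cfsg.Agent.Ct.He.L7
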